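import Cfsg.Agent.S0689
import Cfsg.Agent.S0685
import Cfsg.Agent.FPF25.Ico
import Cfsg.Agent.Char.Integral
import Cfsg.Agent.Fusion.Frobenius

/-!
# Minimal non-abelian normal subgroups of linear groups regular on the nonzero vectors
-/

set_option autoImplicit false
set_option linter.unusedSectionVars false

namespace Cfsg.Agent.RegularNormal

open Subgroup
open scoped commutatorElement

universe u

variable {p : ℕ} [Fact p.Prime] {V : Type u} [AddCommGroup V] [Module (ZMod p) V] [Finite V]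
  {H : Subgroup (V ≃ₗ[ZMod p] V)}
  (hreg : ∀ v w : V, v ≠ 0 → w ≠ 0 → ∃! h : H, (h : V ≃ₗ[ZMod p] V) v = w)

instance finite_grp (H : Subgroup (V ≃ₗ[ZMod p] V)) : Finite H := by
  have : Finite (V ≃ₗ[ZMod p] V) := Finite.of_injective (fun e : V ≃ₗ[ZMod p] V => (e : V → V))
    DFunLike.coe_injective
  infer_instance

include hreg in
theorem free (g : H) (w : V) (hg : g ≠ 1) (hw : (g : V ≃ₗ[ZMod p] V) w = w) : w = 0 :=
  by_contra fun hw0 => hg ((hreg w w hw0 hw0).unique hw rfl)

include hreg in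
theorem eq_of_eq_at {g g' : H} {w : V} (hw : w ≠ 0) (h : (g : V ≃ₗ[ZMod p] V) w = (g' : V ≃ₗ[ZMod p] V) w) :
    g = g' :=
  (hreg w _ hw (fun e => hw ((LinearEquiv.map_eq_zero_iff _).mp e))).unique h rfl

include hreg in
theorem card_eq [Nontrivial V] : Nat.card H = Nat.card V - 1 := by
  classical
  obtain ⟨v0, hv0⟩ := exists_ne (0 : V)
  have hbij : Function.Bijective (fun h : H => (⟨(h : V ≃ₗ[ZMod p] V) v0,
      fun e => hv0 ((LinearEquiv.map_eq_zero_iff _).mp e)⟩ : {v : V // v ≠ 0})) := by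
    refine ⟨fun h h' e => eq_of_eq_at hreg hv0 (Subtype.ext_iff.mp e), fun w => ?_⟩
    obtain ⟨h, hh, -⟩ := hreg v0 w.1 hv0 w.2
    exact ⟨h, Subtype.ext hh⟩
  have := Fintype.ofFinite V
  rw [Nat.card_congr (Equiv.ofBijective _ hbij), Nat.card_eq_fintype_card, Nat.card_eq_fintype_card,
    Fintype.card_subtype_compl, Fintype.card_subtype_eq]

include hreg in
theorem not_dvd_card [Nontrivial V] : ¬ p ∣ Nat.card H := by
  intro hd
  rw [card_eq hreg] at hd
  have h1 : p ∣ Nat.card V := by
    rw [Module.natCard_eq_pow_finrank (K := ZMod p) (V := V), Nat.card_zmod]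
    exact dvd_pow_self p Module.finrank_pos.ne'
  have h2 : 0 < Nat.card V := Nat.card_pos
  have h3 := Nat.dvd_sub h1 hd
  rw [show Nat.card V - (Nat.card V - 1) = 1 by omega] at h3
  exact (Fact.out : p.Prime).one_lt.ne' (Nat.dvd_one.mp h3)

include hreg in
theorem hasFPF [Nontrivial V] : FPF25.HasFPF H :=
  FPF25.hasFPF_of_module (not_dvd_card hreg)
    (fun g => (g : V ≃ₗ[ZMod p] V).toLinearMap.toAddMonoidHom) (fun w => rfl) (fun a b w => rfl)
    (free hreg)

/-- a quaternion group of nilpotency class two has order eight -/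
theorem quaternion_class_two {G : Type*} [Group G] {k : ℕ} (hk : 1 ≤ k)
    (e : G ≃* QuaternionGroup (2 ^ k)) (h : ∀ x y z : G, Commute (x * y * x⁻¹ * y⁻¹) z) : k = 1 := by
  by_contra hne
  have h1 : (QuaternionGroup.a 1 : QuaternionGroup (2 ^ k)) * QuaternionGroup.xa 0 *
        (QuaternionGroup.a 1)⁻¹ * (QuaternionGroup.xa 0)⁻¹ * QuaternionGroup.xa 0 =
      QuaternionGroup.xa 0 * ((QuaternionGroup.a 1) * QuaternionGroup.xa 0 *
        (QuaternionGroup.a 1)⁻¹ * (QuaternionGroup.xa 0)⁻¹) := by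
    have := congrArg e (h (e.symm (QuaternionGroup.a 1)) (e.symm (QuaternionGroup.xa 0))
      (e.symm (QuaternionGroup.xa 0))).eq
    simpa using this
  have ia : (QuaternionGroup.a 1 : QuaternionGroup (2 ^ k))⁻¹ = QuaternionGroup.a (-1) := rfl
  have ib : (QuaternionGroup.xa 0 : QuaternionGroup (2 ^ k))⁻¹ =
      QuaternionGroup.xa (((2 ^ k : ℕ) : ZMod (2 * 2 ^ k)) + 0) := rfl
  rw [inv_mul_cancel_right] at h1
  simp only [ia, ib, QuaternionGroup.a_mul_a, QuaternionGroup.a_mul_xa,
    QuaternionGroup.xa_mul_a, QuaternionGroup.xa_mul_xa, QuaternionGroup.xa.injEq] at h1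
  have h4 : ((4 : ℕ) : ZMod (2 * 2 ^ k)) = 0 := by
    have : (4 : ZMod (2 * 2 ^ k)) = 0 := by linear_combination (norm := (push_cast; ring_nf)) -h1 - (ZMod.natCast_self (2 * 2 ^ k))
    exact_mod_cast this
  rw [ZMod.natCast_eq_zero_iff] at h4
  have h5 : 2 ^ 2 ≤ 2 ^ k := Nat.pow_le_pow_right two_pos (by omega)
  have := Nat.le_of_dvd (by norm_num) h4
  omega

variable (A : Subgroup H) (N : Subgroup H)

include hreg in
theorem quat_of_minimal [Nontrivial V] [A.Normal] [IsMulCommutative A]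
    (hAmax : ∀ B : Subgroup H, B.Normal → IsMulCommutative B → A ≤ B → B = A)
    [hNn : N.Normal] (hNle : N ≤ centralizer (A : Set H)) (hNna : ¬ IsMulCommutative N)
    (hNmin : ∀ M : Subgroup H, M.Normal → M ≤ N → ¬ IsMulCommutative M → M = N)
    [Group.IsSolvable N] : Nonempty (N ≃* QuaternionGroup 2) := by
  classical
  set N' : Subgroup H := (_root_.commutator N).map N.subtype with hN'
  have hle : N' ≤ N := map_subtype_le _
  have hNnt : Nontrivial N := by
    by_contra hc
    rw [not_nontrivial_iff_subsingleton] at hc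
    exact hNna ⟨⟨fun a b => Subsingleton.elim _ _⟩⟩
  have hab : IsMulCommutative N' := by
    by_contra hna
    have h1 := hNmin N' inferInstance hle hna
    refine (Group.IsSolvable.commutator_lt_top_of_nontrivial N).ne ?_
    refine eq_top_iff.mpr fun x _ => ?_
    have hx : (x : H) ∈ N' := h1.symm ▸ x.2
    obtain ⟨y, hy, e⟩ := hx
    exact (Subtype.ext e : y = x) ▸ hy
  have hB : IsMulCommutative (A ⊔ N' : Subgroup H) := by
    rw [sup_eq_closure]
    refine isMulCommutative_closure fun x hx y hy => ?_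
    have hc : ∀ a ∈ A, ∀ n ∈ N', a * n = n * a := fun a ha n hn =>
      mem_centralizer_iff.mp (hNle (hle hn)) a ha
    rcases hx with hx | hx <;> rcases hy with hy | hy
    · exact congrArg Subtype.val (IsMulCommutative.is_comm.comm (⟨x, hx⟩ : A) ⟨y, hy⟩)
    · exact hc x hx y hy
    · exact (hc y hy x hx).symm
    · exact congrArg Subtype.val (IsMulCommutative.is_comm.comm (⟨x, hx⟩ : N') ⟨y, hy⟩)
  have hNA : N' ≤ A := (hAmax _ inferInstance hB le_sup_left) ▸ le_sup_right
  have hcen : _root_.commutator N ≤ center N := fun d hd => mem_center_iff.mpr fun n =>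
    Subtype.ext (mem_centralizer_iff.mp (hNle n.2) _ (hNA (mem_map_of_mem _ hd))).symm
  have hnil : Group.IsNilpotent N := by
    have hh : Group.IsNilpotent (Abelianization N) := CommGroup.isNilpotent
    refine Subgroup.isNilpotent_of_ker_le_center (Abelianization.of (G := N)) ?_
    rw [Abelianization.ker_of]
    exact hcen
  have hsy : ∃ q : ℕ, ∃ _ : Fact q.Prime, ∃ P : Sylow q N, ¬ IsMulCommutative (P : Subgroup N) := by
    by_contra hcon
    push Not at hcon
    apply hNna
    obtain ⟨e⟩ := ((Group.isNilpotent_of_finite_tfae (G := N)).out 0 4).mp hnil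
    refine ⟨⟨fun x y => e.symm.injective ?_⟩⟩
    rw [map_mul, map_mul]
    funext q P
    have hq := Nat.prime_of_mem_primeFactors q.2
    exact (hcon q ⟨hq⟩ P).is_comm.comm _ _
  obtain ⟨q, hq, P, hP⟩ := hsy
  have hPn : (P : Subgroup N).Normal := ((Group.isNilpotent_of_finite_tfae (G := N)).out 0 3 rfl rfl).mp hnil q hq P
  have hPc : (P : Subgroup N).Characteristic := Sylow.characteristic_of_normal P hPn
  have hPN : (P : Subgroup N).map N.subtype = N := by
    refine hNmin _ inferInstance (map_subtype_le _) fun hc => hP ⟨⟨fun x y => ?_⟩⟩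
    refine Subtype.ext (Subtype.ext ?_)
    show ((x : N) : H) * ((y : N) : H) = ((y : N) : H) * ((x : N) : H)
    exact congrArg Subtype.val
      (hc.is_comm.comm (⟨((x : N) : H), x, x.2, rfl⟩ : (P : Subgroup N).map N.subtype)
        ⟨((y : N) : H), y, y.2, rfl⟩)
  have hNp : IsPGroup q N := hPN ▸ P.2.map N.subtype
  rcases (hasFPF hreg).cyclic_or_quaternion hNp with hc | ⟨-, k, hk, ⟨e⟩⟩
  · exact absurd (@IsCyclic.isMulCommutative _ _ hc) hNna
  · obtain rfl := quaternion_class_two hk e fun x y z => by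
      have h1 : x * y * x⁻¹ * y⁻¹ ∈ center N := hcen (by
        rw [← commutatorElement_def, _root_.commutator_def]
        exact commutator_mem_commutator (mem_top _) (mem_top _))
      exact (mem_center_iff.mp h1 z).symm
    exact ⟨e⟩

theorem card_mulAut_dvd {P : Type*} [Group P] [Finite P] (e : P ≃* QuaternionGroup 2) :
    Nat.card (MulAut P) ∣ 24 := by
  classical
  have : Fact (Nat.Prime 2) := ⟨Nat.prime_two⟩
  have hn : Nat.card P = 2 ^ 3 := by
    rw [Nat.card_congr e.toEquiv, Nat.card_eq_fintype_card, QuaternionGroup.card]; rfl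
  obtain ⟨r, -, hr⟩ := (Nat.dvd_prime_pow Nat.prime_two).mp
    (hn ▸ (frattini P).index_dvd_card : (frattini P).index ∣ 2 ^ 3)
  set a := e.symm (QuaternionGroup.a 1)
  set b := e.symm (QuaternionGroup.xa 0)
  have hab : closure ({a, b} : Set P) = ⊤ := by
    refine eq_top_iff.mpr fun x _ => ?_
    rw [← e.symm_apply_apply x]
    have ha : a ∈ closure ({a, b} : Set P) := subset_closure (Set.mem_insert _ _)
    have hb : b ∈ closure ({a, b} : Set P) := subset_closure (Set.mem_insert_of_mem _ rfl)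
    rcases e x with i | i
    · rw [← ZMod.natCast_zmod_val i, ← QuaternionGroup.a_one_pow, map_pow]
      exact pow_mem ha _
    · rw [show QuaternionGroup.xa i = QuaternionGroup.xa 0 * QuaternionGroup.a i by
        rw [QuaternionGroup.xa_mul_a, zero_add], map_mul, ← ZMod.natCast_zmod_val i,
        ← QuaternionGroup.a_one_pow, map_pow]
      exact mul_mem hb (pow_mem ha _)
  have hr2 : r ≤ 2 := by
    obtain ⟨hcomm, hexp⟩ := FGS.frattini_quotient_props (P := P) (p := 2) (n := 3) hn
    have hle := FGS.card_closure_le hcomm hexp 2 ![(a : P ⧸ frattini P), (b : P ⧸ frattini P)]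
    have htop : closure (Set.range ![(a : P ⧸ frattini P), (b : P ⧸ frattini P)]) = ⊤ := by
      have h1 : Set.range ![(a : P ⧸ frattini P), (b : P ⧸ frattini P)] =
          QuotientGroup.mk' (frattini P) '' ({a, b} : Set P) := by
        rw [Matrix.range_cons_cons_empty, Set.image_pair]
        rfl
      rw [h1, ← MonoidHom.map_closure, hab, ← MonoidHom.range_eq_map,
        MonoidHom.range_eq_top.mpr (QuotientGroup.mk'_surjective _)]
    rw [htop, card_top, ← index_eq_card, hr] at hle
    exact (Nat.pow_le_pow_iff_right (by norm_num)).mp hle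
  refine (FGS.card_mulAut_dvd (n := 3) hn hr).trans ?_
  interval_cases r <;> decide

include hreg in
/-- the centraliser of a normal quaternion subgroup -/
theorem centralizer_quat [Nontrivial V] [hNn : N.Normal] (e : N ≃* QuaternionGroup 2) :
    IsZGroup (centralizer (N : Set H)) ∧ (centralizer (N : Set H)).index ∣ 24 ∧
      ∃ m, Odd m ∧ Nat.card (centralizer (N : Set H)) = 2 * m ∧
      ∃ z : H, z ∈ centralizer (N : Set H) ∧ orderOf z = 2 := by
  classical
  have : Fact (Nat.Prime 2) := ⟨Nat.prime_two⟩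
  have hF := hasFPF hreg
  set D := centralizer (N : Set H) with hD
  set i : N := e.symm (QuaternionGroup.a 1) with hi
  set j : N := e.symm (QuaternionGroup.xa 0) with hj
  have ho : orderOf (i : H) = 4 := by
    rw [Subgroup.orderOf_coe, hi, e.symm.orderOf_eq, QuaternionGroup.orderOf_a_one]
  have hij : ¬ Commute (i : H) (j : H) := by
    intro h
    have : Commute i j := Subtype.ext h
    have h2 := this.map e
    rw [hi, hj, e.apply_symm_apply, e.apply_symm_apply] at h2
    revert h2
    unfold Commute SemiconjBy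
    decide
  have hz : orderOf ((i : H) ^ 2) = 2 := by
    rw [orderOf_pow' _ two_ne_zero, ho]; rfl
  have hzD : (i : H) ^ 2 ∈ D := mem_centralizer_iff.mpr fun x _ =>
    mem_center_iff.mp (hF.mem_center_of_orderOf_two hz) x
  have hno4 : ∀ x ∈ D, orderOf x ≠ 4 := by
    intro x hx hx4
    have hxi : Commute x (i : H) := (mem_centralizer_iff.mp hx _ i.2).symm
    have hx2 : x ^ 2 = (i : H) ^ 2 := hF.eq_of_orderOf_two (by
      rw [orderOf_pow' _ two_ne_zero, hx4]; rfl) hz
    have h2 : (x * (i : H)) ^ 2 = 1 := by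
      rw [hxi.mul_pow, hx2, ← pow_add, show 2 + 2 = orderOf (i : H) from ho.symm, pow_orderOf_eq_one]
    have hxj : Commute x (j : H) := (mem_centralizer_iff.mp hx _ j.2).symm
    rcases (Nat.dvd_prime Nat.prime_two).mp (orderOf_dvd_of_pow_eq_one h2) with h | h
    · rw [orderOf_eq_one_iff, mul_eq_one_iff_eq_inv] at h
      rw [h] at hxj
      exact hij (by simpa using hxj.inv_left)
    · have h3 := hF.eq_of_orderOf_two h hz
      rw [pow_two, mul_left_inj] at h3
      exact hij (h3 ▸ hxj)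
  have hsmall : ∀ Q : Subgroup D, IsPGroup 2 Q → ∀ x ∈ Q, orderOf (x : H) ∣ 2 := by
    intro Q hQ x hx
    obtain ⟨t, ht⟩ := IsPGroup.iff_orderOf.mp hQ ⟨x, hx⟩
    rw [Subgroup.orderOf_mk, ← orderOf_coe] at ht
    rcases t with _ | _ | t
    · rw [ht]; exact one_dvd _
    · rw [ht]; exact dvd_of_eq (pow_one 2)
    · refine absurd ?_ (hno4 ((x : H) ^ 2 ^ t) (pow_mem x.2 _))
      rw [orderOf_pow' _ (pow_ne_zero _ two_ne_zero), ht,
        Nat.gcd_eq_right (pow_dvd_pow 2 (by omega)), Nat.pow_div (by omega) two_pos,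
        show t + 1 + 1 - t = 2 by omega]
      rfl
  have h2 : ∀ Q : Subgroup D, IsPGroup 2 Q → Q ≤ zpowers (⟨(i : H) ^ 2, hzD⟩ : D) := by
    intro Q hQ x hx
    rcases (Nat.dvd_prime Nat.prime_two).mp (hsmall Q hQ x hx) with h | h
    · rw [orderOf_eq_one_iff] at h
      rw [show x = 1 from Subtype.ext h]
      exact one_mem _
    · rw [show x = ⟨(i : H) ^ 2, hzD⟩ from Subtype.ext (hF.eq_of_orderOf_two h hz)]
      exact mem_zpowers _
  refine ⟨⟨fun q hq P => ?_⟩, ?_, ?_⟩
  · have := Fact.mk hq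
    rcases eq_or_ne q 2 with rfl | hq2
    · exact isCyclic_of_injective (inclusion (h2 _ P.2)) (inclusion_injective _)
    · exact (hF.subgroup D).isCyclic_of_odd hq2 P.2
  · let φ : H →* MulAut N := MulAut.conjNormal
    have hker : φ.ker = D := by
      ext x
      rw [MonoidHom.mem_ker, hD, mem_centralizer_iff]
      constructor
      · intro h n hn
        have h1 : x * n * x⁻¹ = n := congrArg (fun σ : MulAut N => ((σ ⟨n, hn⟩ : N) : H)) h
        exact (mul_inv_eq_iff_eq_mul.mp h1).symm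
      · intro h
        refine MulEquiv.ext fun n => Subtype.ext ?_
        show x * n * x⁻¹ = n
        rw [← h n n.2, mul_inv_cancel_right]
    rw [← hker, index_ker]
    exact (card_subgroup_dvd_card _).trans (card_mulAut_dvd e)
  · obtain ⟨P⟩ := (inferInstance : Nonempty (Sylow 2 D))
    have hzo : orderOf (⟨(i : H) ^ 2, hzD⟩ : D) = 2 := by rw [Subgroup.orderOf_mk, hz]
    have hc : Nat.card (P : Subgroup D) ∣ 2 := by
      have := card_dvd_of_le (h2 _ P.2)
      rwa [Nat.card_zpowers, hzo] at this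
    have hd : 2 ∣ Nat.card D := hzo ▸ _root_.orderOf_dvd_natCard _
    obtain ⟨m, hm⟩ := hd
    refine ⟨m, ?_, hm, _, hzD, hz⟩
    by_contra hme
    rw [Nat.not_odd_iff_even] at hme
    obtain ⟨m', rfl⟩ := hme
    have h4 : 2 ^ 2 ∣ Nat.card (P : Subgroup D) := P.pow_dvd_card_of_pow_dvd_card ⟨m', by rw [hm]; ring⟩
    exact absurd (Nat.le_of_dvd two_pos (h4.trans hc)) (by norm_num)

include hreg in
theorem solvable_of_quat [Nontrivial V] [N.Normal] (e : N ≃* QuaternionGroup 2) : Group.IsSolvable H := by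
  obtain ⟨hZ, hidx, -⟩ := centralizer_quat hreg N e
  have : Group.IsSolvable (centralizer (N : Set H)) := by
    have := hZ
    infer_instance
  have h2 : Group.IsSolvable (H ⧸ centralizer (N : Set H)) := by
    rw [index_eq_card] at hidx
    obtain ⟨y, z, hy, hz, hyz⟩ := Nat.dvd_mul.mp (show _ ∣ 2 ^ 3 * 3 ^ 1 from hidx)
    obtain ⟨a, -, rfl⟩ := (Nat.dvd_prime_pow Nat.prime_two).mp hy
    obtain ⟨b, -, rfl⟩ := (Nat.dvd_prime_pow Nat.prime_three).mp hz
    exact Char.isSolvable_of_card_eq 2 3 Nat.prime_two Nat.prime_three _ _ rfl ⟨a, b, hyz.symm⟩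
  exact (Group.isSolvable_iff_subgroup_quotient (centralizer (N : Set H))).mpr ⟨inferInstance, h2⟩

theorem quat_arith {p d k i c a : ℕ} (hp : p.Prime) (hd : 0 < d) (hk : 2 ≤ k) (hi : i ∣ 24)
    (hcp : ¬ p ∣ 2 * c) (hc : Odd c) (hcd : c ≤ d) (heq : (p ^ d) ^ k - 1 = i * (c * a))
    (ha : a ∣ p ^ d - 1) : c = 1 ∧ d = 1 ∧ k = 2 ∧ p + 1 ∣ 24 := by
  have hp2 : p ≠ 2 := fun h => hcp (h ▸ dvd_mul_right 2 c)
  have hp3 : 3 ≤ p := by have := hp.two_le; omega
  set q := p ^ d with hq
  have hq3 : 3 ≤ q := hp3.trans (Nat.le_self_pow hd.ne' p)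
  have hale : a ≤ q - 1 := Nat.le_of_dvd (by omega) ha
  have hile : i ≤ 24 := Nat.le_of_dvd (by norm_num) hi
  have hsq : q * q ≤ q ^ k := by rw [← pow_two]; exact Nat.pow_le_pow_right (by omega) hk
  have hmain : q ^ k - 1 ≤ 24 * (c * (q - 1)) := by
    rw [heq]; exact Nat.mul_le_mul hile (Nat.mul_le_mul le_rfl hale)
  obtain ⟨r, hr⟩ : ∃ r, q = r + 1 := ⟨q - 1, by omega⟩
  have hd4 : q + 1 ≤ 24 * d := by
    have h1 : q * q - 1 ≤ 24 * (d * (q - 1)) :=
      ((Nat.sub_le_sub_right hsq 1).trans hmain).trans (Nat.mul_le_mul le_rfl (Nat.mul_le_mul hcd le_rfl))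
    rw [hr, Nat.add_sub_cancel, show (r + 1) * (r + 1) = (r + 2) * r + 1 by ring, Nat.add_sub_cancel,
      ← mul_assoc] at h1
    rw [hr]
    exact Nat.le_of_mul_le_mul_right h1 (by omega)
  have hd5 : d ≤ 4 := by
    by_contra hlt
    push Not at hlt
    have h3 : ∀ n, 5 ≤ n → 24 * n < 3 ^ n := by
      intro n hn
      induction n, hn using Nat.le_induction with
      | base => norm_num
      | succ n hn ih => rw [pow_succ]; omega
    have := (h3 d hlt).trans_le (Nat.pow_le_pow_left hp3 d)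
    omega
  have hc1 : c = 1 := by
    by_contra hne
    have hc3 : c = 3 := by
      obtain ⟨t, rfl⟩ := hc
      omega
    subst hc3
    have hp5 : 5 ≤ p := by
      by_contra hlt
      push Not at hlt
      interval_cases p
      · exact hcp (by norm_num)
      · norm_num at hp
    have h5 : 5 ^ 3 ≤ q := (Nat.pow_le_pow_left hp5 3).trans (Nat.pow_le_pow_right (by omega) hcd)
    omega
  subst hc1
  rw [one_mul] at heq hmain
  have hk2 : k = 2 := by
    by_contra hne
    have h3 : q * q * q ≤ q ^ k := by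
      calc q * q * q = q ^ 3 := by ring
        _ ≤ q ^ k := Nat.pow_le_pow_right (by omega) (by omega)
    have hq4 : q ≤ 3 := by
      by_contra h4
      push Not at h4
      have : 24 * (q - 1) + 1 < q * q * q := by
        have h16 : 16 * q ≤ q * q * q := Nat.mul_le_mul (Nat.mul_le_mul h4 h4) le_rfl
        rcases Nat.lt_or_ge q 5 with h5 | h5
        · interval_cases q
          exact absurd ((Nat.prime_dvd_prime_iff_eq Nat.prime_two hp).mp
            (Nat.prime_two.dvd_of_dvd_pow (⟨2, hq.symm⟩ : 2 ∣ p ^ d))).symm hp2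
        · have : 25 * q ≤ q * q * q := Nat.mul_le_mul (Nat.mul_le_mul h5 h5) le_rfl
          omega
      omega
    have hq' : q = 3 := by omega
    rw [hq'] at heq hale hmain
    have hk4 : k < 4 := by
      by_contra h
      push Not at h
      have : 3 ^ 4 ≤ 3 ^ k := Nat.pow_le_pow_right (by norm_num) h
      omega
    obtain rfl : k = 3 := by omega
    interval_cases a
    · omega
    · norm_num at heq
      subst heq
      norm_num at hi
    · have : i = 13 := by norm_num at heq; omega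
      subst this
      norm_num at hi
  subst hk2
  have hdiv : q + 1 ∣ 24 := by
    obtain ⟨t, ht⟩ := ha
    refine dvd_trans ⟨t, ?_⟩ hi
    have e : (q + 1) * (q - 1) = i * a := by
      rw [← heq, hr, Nat.add_sub_cancel, show (r + 1) ^ 2 = (r + 1 + 1) * r + 1 by ring,
        Nat.add_sub_cancel]
    have hapos : 0 < a := Nat.pos_of_ne_zero fun h0 => by
      rw [h0, mul_zero] at e
      have : 0 < (q + 1) * (q - 1) := Nat.mul_pos (by omega) (by omega)
      omega
    rw [ht, mul_comm a t, ← mul_assoc] at e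
    exact (Nat.eq_of_mul_eq_mul_right hapos e).symm
  have hd1 : d = 1 := by
    by_contra hne
    have hq23 : q + 1 ≤ 24 := Nat.le_of_dvd (by norm_num) hdiv
    have h9 : p ^ 2 ≤ q := Nat.pow_le_pow_right (by omega) (by omega)
    have hp4 : p ≤ 4 := by
      by_contra h
      push Not at h
      have h25 : 5 ^ 2 ≤ p ^ 2 := Nat.pow_le_pow_left h 2
      norm_num at h25
      omega
    obtain rfl : p = 3 := by
      interval_cases p
      · rfl
      · norm_num at hp
    have hd3 : d < 3 := by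
      by_contra h
      push Not at h
      have : 3 ^ 3 ≤ 3 ^ d := Nat.pow_le_pow_right (by norm_num) h
      omega
    obtain rfl : d = 2 := by omega
    rw [hq] at hdiv
    norm_num at hdiv
  subst hd1
  rw [hq, pow_one] at hdiv
  exact ⟨rfl, rfl, rfl, hdiv⟩

include hreg in
/-- the centraliser and the degree in the solvable case -/
theorem quat_main [Nontrivial V] [hAn : A.Normal] [IsMulCommutative A]
    (hAmax : ∀ B : Subgroup H, B.Normal → IsMulCommutative B → A ≤ B → B = A)
    [hNn : N.Normal] (hNle : N ≤ centralizer (A : Set H)) (e : N ≃* QuaternionGroup 2) :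
    centralizer (N : Set H) = A ∧ Nat.card V = p ^ 2 ∧ p + 1 ∣ 24 := by
  classical
  obtain ⟨hZ, hidx, m, hm, hDcard, z, hzD, hzo⟩ := centralizer_quat hreg N e
  have hF := hasFPF hreg
  set D := centralizer (N : Set H) with hD
  have hDn : D.Normal := inferInstance
  set D' : Subgroup H := ⁅D, D⁆ with hD'
  have hDD : D' ≤ D := commutator_le_left D D
  have hDcomm : ∀ x ∈ D', ∀ y ∈ D', x * y = y * x := by
    intro x hx y hy
    rw [hD', ← map_subtype_commutator] at hx hy
    obtain ⟨x, hx, rfl⟩ := hx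
    obtain ⟨y, hy, rfl⟩ := hy
    have := hZ
    have hc : IsCyclic (_root_.commutator D) := IsZGroup.isCyclic_commutator D
    let := IsCyclic.commGroup (α := _root_.commutator D)
    show ((x * y : D) : H) = ((y * x : D) : H)
    exact congrArg (fun z : _root_.commutator D => ((z : D) : H)) (mul_comm (⟨x, hx⟩ : _root_.commutator D) ⟨y, hy⟩)
  set B : Subgroup H := D ⊓ centralizer (D' : Set H) with hB
  have hBn : B.Normal := inferInstance
  have hDB : D' ≤ B := le_inf hDD fun x hx => mem_centralizer_iff.mpr fun y hy => hDcomm y hy x hx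
  have : IsZGroup B := by
    have := hZ
    exact IsZGroup.of_injective (f := inclusion (inf_le_left : B ≤ D)) (inclusion_injective _)
  have : Group.IsNilpotent B := by
    have hnil : Group.IsNilpotent (Abelianization B) := CommGroup.isNilpotent
    refine Subgroup.isNilpotent_of_ker_le_center (Abelianization.of (G := B)) ?_
    rw [Abelianization.ker_of, _root_.commutator_def]
    refine commutator_le.mpr fun x _ y _ => mem_center_iff.mpr fun z => Subtype.ext ?_
    have h1 : ⁅(x : H), (y : H)⁆ ∈ D' := commutator_mem_commutator x.2.1 y.2.1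
    exact (mem_centralizer_iff.mp z.2.2 _ h1).symm
  obtain ⟨a, ha⟩ := IsCyclic.exists_generator (α := B)
  have hBa : zpowers (a : H) = B := le_antisymm (zpowers_le.mpr a.2) fun x hx => by
    obtain ⟨j, hj⟩ := mem_zpowers_iff.mp (ha ⟨x, hx⟩)
    exact mem_zpowers_iff.mpr ⟨j, by rw [← Subgroup.coe_zpow, hj]⟩
  let T : H →* Module.End (ZMod p) V :=
    { toFun := fun g => (g : V ≃ₗ[ZMod p] V).toLinearMap
      map_one' := rfl
      map_mul' := fun _ _ => rfl }
  have hTinj : Function.Injective T := fun x y hxy =>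
    Subtype.ext (LinearEquiv.toLinearMap_injective hxy)
  have hpow : ∀ g : H, g * (a : H) * g⁻¹ ∈ Submonoid.powers (a : H) := fun g =>
    mem_powers_iff_mem_zpowers.mpr (by rw [hBa]; exact hBn.conj_mem _ a.2 g)
  have hcent : ∀ x ∈ D, Commute x (a : H) → x ∈ zpowers (a : H) := fun x hx hxa => by
    rw [hBa]
    refine mem_inf.mpr ⟨hx, mem_centralizer_iff.mpr fun y hy => ?_⟩
    have hy' := hDB hy
    rw [← hBa] at hy'
    obtain ⟨j, rfl⟩ := mem_zpowers_iff.mp hy'
    exact ((hxa.zpow_right j).eq).symm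
  have hNne : ¬ ∀ s ∈ N, ∀ t ∈ N, Commute s t := by
    intro hc
    have h2 := (show Commute (e.symm (QuaternionGroup.a 1)) (e.symm (QuaternionGroup.xa 0)) from
      Subtype.ext (hc _ (SetLike.coe_mem _) _ (SetLike.coe_mem _))).map e
    rw [e.apply_symm_apply, e.apply_symm_apply] at h2
    revert h2
    unfold Commute SemiconjBy
    decide
  obtain ⟨d, k, hd, hk, hVdk, hda, hrel⟩ := S0689.field_part T hTinj
    (fun v w hv hw => (hreg v w hv hw).exists) (a : H) hpow D hcent N
    (fun s hs => mem_centralizer_iff.mp a.2.1 s hs) hNne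
  rw [Nat.card_zmod] at hVdk hda
  set c := (zpowers (a : H)).relIndex D with hcdef
  have hca : c * orderOf (a : H) = Nat.card D := by
    rw [← Nat.card_zpowers, hcdef, ← Coprime.card_subgroupOf (zpowers_le.mpr a.2.1 : zpowers (a : H) ≤ D),
      mul_comm]
    exact ((zpowers (a : H)).subgroupOf D).card_mul_index
  have hzB : z ∈ B := ⟨hzD, mem_centralizer_iff.mpr fun x _ => mem_center_iff.mp (hF.mem_center_of_orderOf_two hzo) x⟩
  have h2a : 2 ∣ orderOf (a : H) := by
    rw [← Nat.card_zpowers, hBa, ← hzo]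
    exact B.orderOf_dvd_natCard hzB
  have hcodd : Odd c := by
    obtain ⟨t, ht⟩ := h2a
    have : c * t = m := by rw [hDcard, ht] at hca; linarith
    exact Odd.of_dvd_nat hm ⟨t, this.symm⟩
  have hH : Nat.card H = D.index * (c * orderOf (a : H)) := by rw [hca, mul_comm, D.card_mul_index]
  have hcp : ¬ p ∣ 2 * c := fun h => not_dvd_card hreg (h.trans (dvd_trans (by
    rw [mul_comm]
    exact Nat.mul_dvd_mul_left c h2a) (hca ▸ card_subgroup_dvd_card D)))
  rw [card_eq hreg, hVdk] at hH
  obtain ⟨hc1, hd1, hk2, hp24⟩ := quat_arith Fact.out hd hk hidx hcp hcodd hrel hH hda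
  refine ⟨?_, by rw [hVdk, hd1, hk2, pow_one], hp24⟩
  have hDle : D ≤ zpowers (a : H) := relIndex_eq_one.mp (hcdef.symm.trans hc1)
  have hDc : IsMulCommutative D := ⟨⟨fun x y => Subtype.ext (by
    obtain ⟨i, hi⟩ := mem_zpowers_iff.mp (hDle x.2)
    obtain ⟨j, hj⟩ := mem_zpowers_iff.mp (hDle y.2)
    show (x : H) * y = y * x
    rw [← hi, ← hj]
    exact ((Commute.refl (a : H)).zpow_zpow i j).eq)⟩⟩
  exact hAmax D hDn hDc fun x hx => mem_centralizer_iff.mpr fun n hn =>
    (mem_centralizer_iff.mp (hNle hn) x hx).symm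

include hreg in
/-- the insoluble case -/
theorem insoluble_main [Nontrivial V] [hAn : A.Normal] [IsMulCommutative A]
    (hAmax : ∀ B : Subgroup H, B.Normal → IsMulCommutative B → A ≤ B → B = A)
    [hNn : N.Normal] (hNle : N ≤ centralizer (A : Set H)) (hNna : ¬ IsMulCommutative N)
    (hNmin : ∀ M : Subgroup H, M.Normal → M ≤ N → ¬ IsMulCommutative M → M = N)
    (hns : ¬ Group.IsSolvable H) :
    Nonempty (N ≃* Matrix.SpecialLinearGroup (Fin 2) (ZMod 5)) ∧ centralizer (N : Set H) = A ∧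
      Nat.card V = p ^ 2 := by
  classical
  obtain ⟨m, hm, hVc, ⟨φ⟩⟩ : ∃ m : ℕ, m.Coprime 120 ∧
      (Nat.card V = 11 ^ 2 ∨ Nat.card V = 29 ^ 2 ∨ Nat.card V = 59 ^ 2) ∧
      Nonempty (H ≃* Matrix.SpecialLinearGroup (Fin 2) (ZMod 5) × Multiplicative (ZMod m)) := by
    rcases S0689.result H hreg hns with ⟨h1, ⟨f⟩⟩ | ⟨h1, hf⟩ | ⟨h1, hf⟩
    · haveI : Unique (Multiplicative (ZMod 1)) := uniqueOfSubsingleton 1
      exact ⟨1, by norm_num, Or.inl (by rw [h1]; norm_num), ⟨f.trans MulEquiv.prodUnique.symm⟩⟩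
    · exact ⟨7, by norm_num, Or.inr (Or.inl (by rw [h1]; norm_num)), hf⟩
    · exact ⟨29, by norm_num, Or.inr (Or.inr (by rw [h1]; norm_num)), hf⟩
  have hV2 : Nat.card V = p ^ 2 := by
    have hp : p.Prime := Fact.out
    obtain ⟨q, hq, hqV⟩ : ∃ q : ℕ, q.Prime ∧ Nat.card V = q ^ 2 := by
      rcases hVc with h | h | h
      exacts [⟨11, by norm_num, h⟩, ⟨29, by norm_num, h⟩, ⟨59, by norm_num, h⟩]
    have hd : p ∣ q ^ 2 := by
      rw [← hqV, Module.natCard_eq_pow_finrank (K := ZMod p) (V := V), Nat.card_zmod]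
      exact dvd_pow_self p Module.finrank_pos.ne'
    rw [hqV, (Nat.prime_dvd_prime_iff_eq hp hq).mp (hp.dvd_of_dvd_pow hd)]
  set π₁ := (MonoidHom.fst _ _).comp φ.toMonoidHom with hπ₁
  set π₂ := (MonoidHom.snd _ _).comp φ.toMonoidHom with hπ₂
  set S := π₂.ker with hS
  have hπS : Function.Injective (π₁.comp S.subtype) := by
    intro x y h
    refine Subtype.ext (φ.injective (Prod.ext h ?_))
    show π₂ (x : H) = π₂ (y : H)
    rw [show π₂ (x : H) = 1 from x.2, show π₂ (y : H) = 1 from y.2]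
  have hπsurj : Function.Surjective (π₁.comp S.subtype) := fun g =>
    ⟨⟨φ.symm (g, 1), show π₂ (φ.symm (g, 1)) = 1 by simp [hπ₂]⟩, by simp [hπ₁]⟩
  let eS : S ≃* Matrix.SpecialLinearGroup (Fin 2) (ZMod 5) := MulEquiv.ofBijective _ ⟨hπS, hπsurj⟩
  have hF := hasFPF hreg
  have hNsol : ¬ Group.IsSolvable N := fun h =>
    hns (solvable_of_quat hreg N (Classical.choice (quat_of_minimal hreg A N hAmax hNle hNna hNmin)))
  obtain ⟨S', ⟨e'⟩⟩ : ∃ S' : Subgroup N, Nonempty (S' ≃* Matrix.SpecialLinearGroup (Fin 2) (ZMod 5)) :=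
    (hF.subgroup N).exists_sl25 hNsol
  have hS'card : Nat.card (S'.map N.subtype) = 120 := by
    rw [card_map_of_injective N.subtype_injective, Nat.card_congr e'.toEquiv, FPF25.card_sl25]
  have hmcard : Nat.card (Multiplicative (ZMod m)) = m := by
    rw [Nat.card_congr Multiplicative.toAdd, Nat.card_zmod]
  have hS'S : S'.map N.subtype = S := by
    refine eq_of_le_of_card_ge (fun x hx => ?_) (le_of_eq ?_)
    · refine orderOf_eq_one_iff.mp (Nat.eq_one_of_dvd_coprimes hm
        ((_root_.orderOf_dvd_natCard (π₂ x)).trans hmcard.dvd) ((orderOf_map_dvd π₂ x).trans ?_))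
      exact hS'card ▸ (S'.map N.subtype).orderOf_dvd_natCard hx
    · rw [hS'card, Nat.card_congr eS.toEquiv, FPF25.card_sl25]
  have hSne : ¬ IsMulCommutative S := fun hc => FPF25.not_isSolvable_sl25
    (Group.isSolvable_of_comm fun a b => by
      obtain ⟨a, rfl⟩ := eS.surjective a
      obtain ⟨b, rfl⟩ := eS.surjective b
      rw [← map_mul, ← map_mul, hc.is_comm.comm])
  have hSN : S = N := hNmin S inferInstance (hS'S ▸ map_subtype_le _) hSne
  refine ⟨⟨(MulEquiv.subgroupCongr hSN).symm.trans eS⟩, ?_, hV2⟩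
  refine hAmax _ inferInstance ⟨⟨fun x y => ?_⟩⟩ fun a ha => mem_centralizer_iff.mpr fun n hn =>
    (mem_centralizer_iff.mp (hNle hn) a ha).symm
  have hcent : ∀ w : centralizer (N : Set H), ∀ g, π₁ (w : H) * g = g * π₁ (w : H) := by
    intro w g
    obtain ⟨s, rfl⟩ := hπsurj g
    show π₁ (w : H) * π₁ (s : H) = π₁ (s : H) * π₁ (w : H)
    rw [← map_mul, ← map_mul, mem_centralizer_iff.mp w.2 _ (hSN ▸ s.2)]
  refine Subtype.ext (φ.injective ?_)
  show φ ((x : H) * y) = φ ((y : H) * x)
  rw [map_mul, map_mul]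
  exact Prod.ext (hcent x _) (mul_comm _ _)

include hreg in
/-- a nonabelian subgroup is irreducible when the dimension is two -/
theorem irreducible_of_card_sq (hV : Nat.card V = p ^ 2) (hNna : ¬ IsMulCommutative N)
    (W : Submodule (ZMod p) V) (hW : ∀ n ∈ N, ∀ v ∈ W, ((n : H) : V ≃ₗ[ZMod p] V) v ∈ W) :
    W = ⊥ ∨ W = ⊤ := by
  by_contra h
  push Not at h
  have hfin : Module.finrank (ZMod p) V = 2 := by
    rw [Module.natCard_eq_pow_finrank (K := ZMod p) (V := V), Nat.card_zmod] at hV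
    exact Nat.pow_right_injective (Fact.out : p.Prime).two_le hV
  have hW1 : Module.finrank (ZMod p) W = 1 := by
    have h1 : Module.finrank (ZMod p) W < Module.finrank (ZMod p) V := Submodule.finrank_lt h.2
    have h2 : 0 < Module.finrank (ZMod p) W := Nat.pos_of_ne_zero fun e => h.1 (Submodule.finrank_eq_zero.mp e)
    omega
  obtain ⟨w, hw, hspan⟩ := finrank_eq_one_iff'.mp hW1
  refine hNna ⟨⟨fun x y => Subtype.ext ?_⟩⟩
  obtain ⟨cx, hcx⟩ := hspan ⟨_, hW x x.2 w w.2⟩
  obtain ⟨cy, hcy⟩ := hspan ⟨_, hW y y.2 w w.2⟩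
  have ex : ((x : H) : V ≃ₗ[ZMod p] V) (w : V) = cx • (w : V) := (congrArg Subtype.val hcx).symm
  have ey : ((y : H) : V ≃ₗ[ZMod p] V) (w : V) = cy • (w : V) := (congrArg Subtype.val hcy).symm
  refine eq_of_eq_at hreg (fun e => hw (Subtype.ext e)) ?_
  simp only [Subgroup.coe_mul, LinearEquiv.mul_apply, ex, ey, map_smul, smul_smul, mul_comm cx cy]

end Cfsg.Agent.RegularNormal
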